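import Groth.Agent.L01.Serre
import Mathlib.Algebra.Module.FinitePresentation
import Mathlib.RingTheory.Finiteness.Projective
import Mathlib.RingTheory.Ideal.AssociatedPrime.Finiteness
import Mathlib.RingTheory.Localization.AtPrime.Basic

/-! Algebra of depth two extensions: finiteness and depth of rings glued from localizations. -/

set_option autoImplicit false
set_option linter.style.haveILetI false
set_option backward.isDefEq.respectTransparency.types false

universe u v

namespace Groth.L27.S2Ext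

/-- the ring is glued from its localizations at the `g i` -/
structure IsGlued {κ : Type v} {B : Type u} [CommRing B] (g : κ → B) : Prop where
  sep : ∀ b : B, (∀ i, ∃ N : ℕ, g i ^ N * b = 0) → b = 0
  glue : ∀ (N : ℕ) (x : κ → B), (∀ i j, g j ^ N * x i = g i ^ N * x j) → ∃ a, ∀ i, g i ^ N * a = x i

theorem IsGlued.of_bijective {κ : Type v} {B C : Type u} [CommRing B] [CommRing C] {g : κ → B} (φ : B →+* C)
    (hφ : Function.Bijective φ) (h : IsGlued (fun i => φ (g i))) : IsGlued g := by
  refine ⟨fun b hb => hφ.1 ((h.sep (φ b) fun i => ?_).trans (map_zero φ).symm), fun N x hx => ?_⟩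
  · obtain ⟨N, hN⟩ := hb i
    exact ⟨N, by rw [← map_pow, ← map_mul, hN, map_zero]⟩
  · obtain ⟨a, ha⟩ := h.glue N (fun i => φ (x i)) fun i j => by
      simp only [← map_pow, ← map_mul, hx i j]
    obtain ⟨a, rfl⟩ := hφ.2 a
    exact ⟨a, fun i => hφ.1 (by rw [map_mul, map_pow]; exact ha i)⟩

theorem IsGlued.map {κ : Type v} {B C : Type u} [CommRing B] [CommRing C] {g : κ → B} (φ : B →+* C)
    (hφ : Function.Bijective φ) (h : IsGlued g) : IsGlued (fun i => φ (g i)) :=
  IsGlued.of_bijective (RingEquiv.ofBijective φ hφ).symm.toRingHom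
    (RingEquiv.ofBijective φ hφ).symm.bijective (by
      convert h using 1
      funext i
      exact (RingEquiv.ofBijective φ hφ).symm_apply_apply (g i))

/-- an algebra with finite projective localizations, separated by them, is finite over a glued ring -/
theorem finite_of_glued {κ : Type v} [Finite κ] {A : Type u} [CommRing A] [IsNoetherianRing A] (f : κ → A)
    (hA : IsGlued f) {B : Type u} [CommRing B] [Algebra A B]
    (hB : ∀ b : B, (∀ i, ∃ N : ℕ, f i ^ N • b = 0) → b = 0)
    (Ai : κ → Type u) [∀ i, CommRing (Ai i)] [∀ i, Algebra A (Ai i)] [∀ i, IsLocalization.Away (f i) (Ai i)]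
    (Bi : κ → Type u) [∀ i, AddCommGroup (Bi i)] [∀ i, Module A (Bi i)] [∀ i, Module (Ai i) (Bi i)]
    [∀ i, IsScalarTower A (Ai i) (Bi i)] (l : ∀ i, B →ₗ[A] Bi i)
    [∀ i, IsLocalizedModule (Submonoid.powers (f i)) (l i)]
    [∀ i, Module.Finite (Ai i) (Bi i)] [∀ i, Module.Projective (Ai i) (Bi i)] :
    Module.Finite A B := by
  classical
  cases nonempty_fintype κ
  have hdb : ∀ i, ∃ (n : ℕ) (e : Fin n → B) (φ : Fin n → (B →ₗ[A] Ai i)),
      ∀ b, l i b = ∑ k, φ k b • l i (e k) := by
    intro i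
    obtain ⟨n, F, G, -, -, hFG⟩ := Module.Finite.exists_comp_eq_id_of_projective (Ai i) (Bi i)
    have hsurj : ∀ k : Fin n, ∃ p : B × Submonoid.powers (f i), p.2 • F (Pi.single k 1) = l i p.1 := fun k =>
      IsLocalizedModule.surj (Submonoid.powers (f i)) (l i) _
    choose p hp using hsurj
    have hu : ∀ k, IsUnit (algebraMap A (Ai i) (p k).2) := fun k =>
      IsLocalization.map_units (Ai i) (p k).2
    refine ⟨n, fun k => (p k).1, fun k =>
      (↑((hu k).unit⁻¹) : Ai i) • (((LinearMap.proj k).comp G).restrictScalars A).comp (l i), fun b => ?_⟩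
    conv_lhs => rw [← LinearMap.id_apply (R := Ai i) (l i b), ← hFG, LinearMap.comp_apply, pi_eq_sum_univ' (G (l i b)),
      map_sum]
    refine Finset.sum_congr rfl fun k _ => ?_
    rw [map_smul, ← hp k]
    simp only [LinearMap.smul_apply, LinearMap.comp_apply, LinearMap.coe_restrictScalars, LinearMap.proj_apply]
    rw [Submonoid.smul_def, ← algebraMap_smul (Ai i) ((p k).2 : A) (F (Pi.single k 1)), smul_smul, smul_eq_mul,
      mul_right_comm, IsUnit.val_inv_mul, one_mul]
  choose n e φ hφ using hdb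
  let M₀ : Submodule A B := Submodule.span A (Set.range fun p : Σ i, Fin (n i) => e p.1 p.2)
  haveI : Module.Finite A M₀ := Module.Finite.span_of_finite A (Set.finite_range _)
  have hmem : ∀ b : B, ∃ N, ∀ i, f i ^ N • b ∈ M₀ := by
    intro b
    have h1 : ∀ i, ∃ N, f i ^ N • b ∈ M₀ := by
      intro i
      have hnum : ∀ k, ∃ p : A × Submonoid.powers (f i), φ i k b * algebraMap A (Ai i) p.2 = algebraMap A (Ai i) p.1 :=
        fun k => IsLocalization.surj _ _
      choose p hp using hnum
      obtain ⟨P, hP⟩ : ∃ P : Submonoid.powers (f i), ∀ k, ∃ c : A, φ i k b * algebraMap A (Ai i) P = algebraMap A (Ai i) c :=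
        ⟨∏ k, (p k).2, fun k => ⟨(p k).1 * ∏ k' ∈ Finset.univ.erase k, ((p k').2 : A), by
          rw [Submonoid.coe_finsetProd, ← Finset.mul_prod_erase _ _ (Finset.mem_univ k), map_mul, ← mul_assoc, hp,
            map_mul]⟩⟩
      choose c hc using hP
      obtain ⟨N, hN⟩ := P.2
      have hz : l i ((P : A) • b - ∑ k, c k • e i k) = 0 := by
        rw [map_sub, map_smul, hφ i b, Finset.smul_sum, map_sum, sub_eq_zero]
        refine Finset.sum_congr rfl fun k _ => ?_
        rw [map_smul, ← algebraMap_smul (Ai i) (P : A), ← algebraMap_smul (Ai i) (c k), smul_smul, mul_comm, hc]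
      rw [← map_zero (l i)] at hz
      obtain ⟨⟨s, M, rfl⟩, hs⟩ := IsLocalizedModule.exists_of_eq (S := Submonoid.powers (f i)) hz
      refine ⟨M + N, ?_⟩
      simp only [Submonoid.smul_def, smul_zero, smul_sub, sub_eq_zero] at hs
      rw [pow_add, mul_smul, show f i ^ N = (P : A) from hN, hs]
      exact M₀.smul_mem _ (sum_mem fun k _ => M₀.smul_mem _ (Submodule.subset_span ⟨⟨i, k⟩, rfl⟩))
    choose N hN using h1
    refine ⟨Finset.univ.sup N, fun i => ?_⟩
    rw [← Nat.sub_add_cancel (Finset.le_sup (f := N) (Finset.mem_univ i)), pow_add, mul_smul]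
    exact M₀.smul_mem _ (hN i)
  let IsExt : (M₀ →ₗ[A] A) → B → A → Prop := fun ψ b a =>
    ∀ i, ∃ (N : ℕ) (m : M₀), (m : B) = f i ^ N • b ∧ f i ^ N * a = ψ m
  have huniq : ∀ ψ b a a', IsExt ψ b a → IsExt ψ b a' → a = a' := by
    intro ψ b a a' h h'
    refine sub_eq_zero.1 (hA.sep _ fun i => ?_)
    obtain ⟨N, m, hm, ha⟩ := h i
    obtain ⟨N', m', hm', ha'⟩ := h' i
    refine ⟨N + N', ?_⟩
    have hmm : f i ^ N' • m = f i ^ N • m' := Subtype.ext (by
      simp only [Submodule.coe_smul, hm, hm', smul_smul, mul_comm])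
    have h2 := congrArg ψ hmm
    rw [map_smul, map_smul, smul_eq_mul, smul_eq_mul, ← ha, ← ha'] at h2
    linear_combination (exp := 1) h2
  have hex : ∀ ψ b, ∃ a, IsExt ψ b a := by
    intro ψ b
    obtain ⟨N, hN⟩ := hmem b
    obtain ⟨a, ha⟩ := hA.glue N (fun i => ψ ⟨_, hN i⟩) fun i j => by
      rw [← smul_eq_mul, ← smul_eq_mul, ← map_smul, ← map_smul]
      exact congrArg ψ (Subtype.ext (by simp only [Submodule.coe_smul, smul_smul, mul_comm]))
    exact ⟨a, fun i => ⟨N, _, rfl, ha i⟩⟩
  choose E hE using hex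
  obtain ⟨S, hS⟩ := (inferInstance : Module.Finite A (M₀ →ₗ[A] A)).fg_top
  let Θ : B →ₗ[A] (S → A) :=
    { toFun := fun b s => E s b
      map_add' := fun x y => funext fun s => huniq _ _ _ _ (hE _ _) fun i => by
        obtain ⟨N, m, hm, ha⟩ := hE s x i
        obtain ⟨N', m', hm', ha'⟩ := hE s y i
        refine ⟨N + N', f i ^ N' • m + f i ^ N • m', ?_, ?_⟩
        · simp only [Submodule.coe_add, Submodule.coe_smul, hm, hm', smul_smul, ← pow_add, smul_add, add_comm N' N]
        · simp only [Pi.add_apply, map_add, map_smul, smul_eq_mul, ← ha, ← ha']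
          ring
      map_smul' := fun c x => funext fun s => huniq _ _ _ _ (hE _ _) fun i => by
        obtain ⟨N, m, hm, ha⟩ := hE s x i
        refine ⟨N, c • m, ?_, ?_⟩
        · rw [Submodule.coe_smul, hm, smul_comm]
        · simp only [RingHom.id_apply, Pi.smul_apply, smul_eq_mul, map_smul, ← ha]
          ring }
  refine Module.Finite.of_injective Θ ((injective_iff_map_eq_zero Θ).2 fun b hb => hB b fun i => ?_)
  obtain ⟨N₀, hN₀⟩ := hmem b
  let m₀ : M₀ := ⟨_, hN₀ i⟩
  have hkill : ∀ ψ : M₀ →ₗ[A] A, algebraMap A (Ai i) (ψ m₀) = 0 := by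
    intro ψ
    have hψ : ψ ∈ Submodule.span A (S : Set (M₀ →ₗ[A] A)) := hS ▸ Submodule.mem_top
    induction hψ using Submodule.span_induction with
    | mem x hx =>
      obtain ⟨N, m, hm, ha⟩ := hE x b i
      have h0 : E x b = 0 := congrFun hb ⟨x, hx⟩
      rw [h0, mul_zero] at ha
      have hmm : f i ^ N • m₀ = f i ^ N₀ • m := Subtype.ext (by
        simp only [m₀, Submodule.coe_smul, hm, smul_smul, mul_comm])
      have h2 := congrArg x hmm
      rw [map_smul, map_smul, ← ha, smul_zero, smul_eq_mul] at h2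
      have h3 := congrArg (algebraMap A (Ai i)) h2
      rw [map_mul, map_zero] at h3
      exact ((IsLocalization.map_units (Ai i) (⟨_, N, rfl⟩ : Submonoid.powers (f i))).mul_right_eq_zero).1 h3
    | zero => simp
    | add x y _ _ hx hy => rw [LinearMap.add_apply, map_add, hx, hy, add_zero]
    | smul c x _ hx => rw [LinearMap.smul_apply, smul_eq_mul, map_mul, hx, mul_zero]
  have hzero : l i (m₀ : B) = 0 := by
    rw [hφ i]
    refine Finset.sum_eq_zero fun k _ => ?_
    haveI : Module.FinitePresentation A M₀ := Module.finitePresentation_of_finite A M₀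
    obtain ⟨ψ, s, hψ⟩ := Module.FinitePresentation.exists_lift_of_isLocalizedModule (Submonoid.powers (f i))
      (Algebra.linearMap A (Ai i)) ((φ i k).comp M₀.subtype)
    have h1 := LinearMap.congr_fun hψ m₀
    simp only [LinearMap.comp_apply, LinearMap.smul_apply, Algebra.linearMap_apply, Submodule.subtype_apply] at h1
    rw [hkill, Submonoid.smul_def, Algebra.smul_def] at h1
    rw [(IsLocalization.map_units (Ai i) s).mul_right_eq_zero.1 h1.symm, zero_smul]
  rw [← map_zero (l i)] at hzero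
  obtain ⟨⟨s, M, rfl⟩, hs⟩ := IsLocalizedModule.exists_of_eq (S := Submonoid.powers (f i)) hzero
  simp only [Submonoid.smul_def, smul_zero, m₀, smul_smul, ← pow_add] at hs
  exact ⟨M + N₀, hs⟩

/-- glued Noetherian rings have depth two at the primes containing all `g i` -/
theorem two_le_depth_of_glued {κ : Type v} {B : Type u} [CommRing B] [IsNoetherianRing B] (g : κ → B)
    (h : IsGlued g) (q : Ideal B) [q.IsPrime] (hq : ∀ i, g i ∈ q) (L : Type u) [CommRing L] [IsLocalRing L]
    [Algebra B L] [IsLocalization.AtPrime L q] : (2 : ℕ∞) ≤ LocCoh.depth L L := by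
  classical
  let J := Ideal.span (Set.range g)
  have hJq : J ≤ q := Ideal.span_le.2 (by rintro _ ⟨i, rfl⟩; exact hq i)
  -- a first regular element
  obtain ⟨b, hbJ, hb⟩ : ∃ b ∈ J, ∀ c, b * c = 0 → c = 0 := by
    by_contra! hcon
    have hsub : (J : Set B) ⊆ ⋃ p ∈ associatedPrimes B B, (p : Set B) := by
      rw [biUnion_associatedPrimes_eq_zero_divisors]
      intro b hb
      obtain ⟨c, hc, hc0⟩ := hcon b hb
      exact ⟨c, hc0, by simpa [mul_comm] using hc⟩
    obtain ⟨p, hp, hle⟩ := (Ideal.subset_union_prime_finite (associatedPrimes.finite B B) (f := id) 0 0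
      (fun p hp _ _ => hp.isPrime)).1 hsub
    obtain ⟨hpp, x, hx⟩ := (isAssociatedPrime_iff_exists_injective_linearMap p _).1 hp
    have hx0 : x 1 = 0 → False := fun h0 => hpp.ne_top ((Ideal.eq_top_iff_one p).2
      (Ideal.Quotient.eq_zero_iff_mem.1 (hx (h0.trans (map_zero x).symm))))
    refine hx0 (h.sep _ fun i => ⟨1, ?_⟩)
    rw [pow_one, ← smul_eq_mul, ← map_smul, Algebra.smul_def, mul_one]
    convert map_zero x
    exact Ideal.Quotient.eq_zero_iff_mem.2 (hle (Ideal.subset_span ⟨i, rfl⟩))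
  -- a second one
  obtain ⟨y, hyJ, hy⟩ : ∃ y ∈ J, ∀ c, y * c ∈ Ideal.span {b} → c ∈ Ideal.span {b} := by
    by_contra! hcon
    have hsub : (J : Set B) ⊆ ⋃ p ∈ associatedPrimes B (B ⧸ Ideal.span {b}), (p : Set B) := by
      rw [biUnion_associatedPrimes_eq_zero_divisors]
      intro y hy
      obtain ⟨c, hc, hc0⟩ := hcon y hy
      refine ⟨Ideal.Quotient.mk _ c, fun h0 => hc0 (Ideal.Quotient.eq_zero_iff_mem.1 h0), ?_⟩
      exact Ideal.Quotient.eq_zero_iff_mem.2 hc
    obtain ⟨p, hp, hle⟩ := (Ideal.subset_union_prime_finite (associatedPrimes.finite B (B ⧸ Ideal.span {b}))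
      (f := id) 0 0 (fun p hp _ _ => hp.isPrime)).1 hsub
    obtain ⟨hpp, x, hx⟩ := (isAssociatedPrime_iff_exists_injective_linearMap p _).1 hp
    obtain ⟨c, hc⟩ := Ideal.Quotient.mk_surjective (x 1)
    have hgc : ∀ i, ∃ d, g i * c = b * d := fun i => by
      have h1 : g i • x 1 = 0 := by
        rw [← map_smul, Algebra.smul_def, mul_one]
        convert map_zero x
        exact Ideal.Quotient.eq_zero_iff_mem.2 (hle (Ideal.subset_span ⟨i, rfl⟩))
      rw [← hc] at h1
      obtain ⟨d, hd⟩ := Ideal.mem_span_singleton'.1 (Ideal.Quotient.eq_zero_iff_mem.1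
        (show Ideal.Quotient.mk (Ideal.span {b}) (g i * c) = 0 from h1))
      exact ⟨d, by rw [← hd, mul_comm]⟩
    choose d hd using hgc
    obtain ⟨a, ha⟩ := h.glue 1 d fun i j => by
      rw [pow_one, pow_one]
      refine sub_eq_zero.1 (hb _ ?_)
      linear_combination (g i) * hd j - (g j) * hd i
    have hca : c = b * a := sub_eq_zero.1 (h.sep _ fun i => ⟨1, by
      have := ha i
      rw [pow_one] at this ⊢
      linear_combination hd i - b * this⟩)
    refine hpp.ne_top ((Ideal.eq_top_iff_one p).2 (Ideal.Quotient.eq_zero_iff_mem.1 (hx (?_ : x 1 = x 0))))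
    rw [map_zero, ← hc, hca]
    exact Ideal.Quotient.eq_zero_iff_mem.2 (Ideal.mul_mem_right _ _ (Ideal.mem_span_singleton_self b))
  have hmax : ∀ z ∈ J, algebraMap B L z ∈ IsLocalRing.maximalIdeal L := fun z hz =>
    (IsLocalization.AtPrime.to_map_mem_maximal_iff L q z).2 (hJq hz)
  refine Groth.L01.Serre.two_le_depth (hmax b hbJ) (hmax y hyJ) (fun c hc => ?_) (fun c hc => ?_)
  · obtain ⟨⟨c₀, s⟩, hcs⟩ := IsLocalization.surj q.primeCompl c
    have h0 : algebraMap B L (b * c₀) = 0 := by rw [map_mul, ← hcs, ← mul_assoc, hc, zero_mul]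
    obtain ⟨t, ht⟩ := (IsLocalization.map_eq_zero_iff q.primeCompl L _).1 h0
    have h1 : (t : B) * c₀ = 0 := hb _ (by linear_combination ht)
    have h2 : algebraMap B L c₀ = 0 := (IsLocalization.map_eq_zero_iff q.primeCompl L _).2 ⟨t, h1⟩
    rw [h2] at hcs
    exact (IsLocalization.map_units L s).mul_left_eq_zero.1 hcs
  · obtain ⟨e, he⟩ := Ideal.mem_span_singleton'.1 hc
    obtain ⟨⟨c₀, s⟩, hcs⟩ := IsLocalization.surj q.primeCompl c
    obtain ⟨⟨e₀, s'⟩, hes⟩ := IsLocalization.surj q.primeCompl e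
    have h0 : algebraMap B L (y * c₀ * s') = algebraMap B L (e₀ * b * s) := by
      simp only [map_mul, ← hcs, ← hes]
      linear_combination -(algebraMap B L (s : B) * algebraMap B L (s' : B)) * he
    obtain ⟨t, ht⟩ := (IsLocalization.eq_iff_exists q.primeCompl L).1 h0
    obtain ⟨d, hd⟩ := Ideal.mem_span_singleton'.1 (hy (t * c₀ * s') (Ideal.mem_span_singleton'.2
      ⟨t * e₀ * s, by linear_combination -ht⟩))
    rw [Ideal.mem_span_singleton']
    have hu : IsUnit (algebraMap B L ((t : B) * s' * s)) :=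
      IsLocalization.map_units L (⟨_, mul_mem (mul_mem t.2 s'.2) s.2⟩ : q.primeCompl)
    refine ⟨algebraMap B L d * ↑hu.unit⁻¹, ?_⟩
    have h2 : algebraMap B L d * algebraMap B L b = c * algebraMap B L ((t : B) * s' * s) := by
      rw [← map_mul, hd, map_mul, map_mul, map_mul, map_mul, ← hcs]
      ring
    rw [mul_right_comm, h2, mul_assoc, IsUnit.mul_val_inv, mul_one]

end Groth.L27.S2Ext
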