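import Groth.Agent.L27.S2Ext.Algebra
import Groth.Agent.L20.FlatHartogs
import Groth.Prelude.Def_FEt
import Mathlib.AlgebraicGeometry.Normalization
import Mathlib.AlgebraicGeometry.Morphisms.Etale
import Mathlib.RingTheory.Flat.EquationalCriterion
import Mathlib.RingTheory.Localization.Module

/-! Finite extensions of depth two of finite etale covers. -/

set_option autoImplicit false
set_option linter.style.haveILetI false
set_option backward.isDefEq.respectTransparency.types false

universe u v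

open CategoryTheory CategoryTheory.Limits AlgebraicGeometry TopologicalSpace Opposite

namespace Groth.L27.S2Ext

theorem glued_of_cover {T : Scheme.{u}} {κ : Type v} (O : T.Opens) (g : κ → Γ(T, O))
    (hcov : O ≤ ⨆ i, T.basicOpen (g i)) : IsGlued g := by
  have hu : ∀ i (N : ℕ), IsUnit (T.presheaf.map (homOfLE (T.basicOpen_le (g i))).op (g i) ^ N) := fun i N =>
    (RingedSpace.isUnit_res_basicOpen T.toRingedSpace (g i)).pow N
  refine ⟨fun b hb => ?_, fun N x hx => ?_⟩
  · refine T.sheaf.eq_of_locally_eq' (fun i => T.basicOpen (g i)) O (fun i => homOfLE (T.basicOpen_le _)) hcov b 0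
      fun i => ?_
    obtain ⟨N, hN⟩ := hb i
    show T.presheaf.map _ b = T.presheaf.map _ 0
    rw [map_zero]
    refine (hu i N).mul_right_eq_zero.1 ?_
    rw [← map_pow, ← map_mul, hN, map_zero]
  · let sf : ∀ i, Γ(T, T.basicOpen (g i)) := fun i =>
      (↑((hu i N).unit⁻¹) : Γ(T, T.basicOpen (g i))) * T.presheaf.map (homOfLE (T.basicOpen_le (g i))).op (x i)
    have hres : ∀ i {P : T.Opens} (h : P ≤ T.basicOpen (g i)) (z : Γ(T, O)),
        T.presheaf.map (homOfLE h).op (T.presheaf.map (homOfLE (T.basicOpen_le (g i))).op z) =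
          T.presheaf.map (homOfLE (h.trans (T.basicOpen_le (g i)))).op z := fun i P h z => by
      rw [← ConcreteCategory.comp_apply, ← Functor.map_comp]; rfl
    have hsf : ∀ i, T.presheaf.map (homOfLE (T.basicOpen_le (g i))).op (g i) ^ N * sf i =
        T.presheaf.map (homOfLE (T.basicOpen_le (g i))).op (x i) := fun i => by
      rw [← mul_assoc, IsUnit.mul_val_inv, one_mul]
    have hcompat : TopCat.Presheaf.IsCompatible T.sheaf.1 (fun i => T.basicOpen (g i)) sf := by
      intro i j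
      let P := T.basicOpen (g i) ⊓ T.basicOpen (g j)
      have hi : P ≤ T.basicOpen (g i) := inf_le_left
      have hj : P ≤ T.basicOpen (g j) := inf_le_right
      show T.presheaf.map (homOfLE hi).op (sf i) = T.presheaf.map (homOfLE hj).op (sf j)
      let r : Γ(T, O) → Γ(T, P) := fun z => T.presheaf.map (homOfLE (hi.trans (T.basicOpen_le (g i)))).op z
      have h1 : r (g i) ^ N * T.presheaf.map (homOfLE hi).op (sf i) = r (x i) := by
        have := congrArg (T.presheaf.map (homOfLE hi).op) (hsf i)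
        rw [map_mul, map_pow, hres, hres] at this
        exact this
      have h2 : r (g j) ^ N * T.presheaf.map (homOfLE hj).op (sf j) = r (x j) := by
        have := congrArg (T.presheaf.map (homOfLE hj).op) (hsf j)
        rw [map_mul, map_pow, hres, hres] at this
        exact this
      have h3 : r (g j) ^ N * r (x i) = r (g i) ^ N * r (x j) := by
        simp only [r, ← map_pow, ← map_mul, hx i j]
      have ui : IsUnit (r (g i) ^ N) := by
        have := (hu i N).map (T.presheaf.map (homOfLE hi).op).hom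
        rw [map_pow, hres] at this
        exact this
      have uj : IsUnit (r (g j) ^ N) := by
        have := (hu j N).map (T.presheaf.map (homOfLE hj).op).hom
        rw [map_pow, hres] at this
        exact this
      apply (ui.mul uj).mul_left_cancel
      linear_combination (r (g j) ^ N) * h1 - (r (g i) ^ N) * h2 + h3
    obtain ⟨(a : Γ(T, O)), ha, -⟩ := T.sheaf.existsUnique_gluing' (fun i => T.basicOpen (g i)) O
      (fun i => homOfLE (T.basicOpen_le _)) hcov sf hcompat
    refine ⟨a, fun i => ?_⟩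
    refine T.sheaf.eq_of_locally_eq' (fun i => T.basicOpen (g i)) O (fun i => homOfLE (T.basicOpen_le _)) hcov _ _
      fun j => ?_
    show T.presheaf.map _ (g i ^ N * a) = T.presheaf.map _ (x i)
    rw [map_mul, map_pow]
    have hj' : T.presheaf.map (homOfLE (T.basicOpen_le (g j))).op a = sf j := ha j
    rw [hj']
    refine (hu j N).mul_left_cancel ?_
    rw [mul_left_comm, hsf j, ← map_pow, ← map_mul, ← map_pow, ← map_mul, hx i j]

variable {X : Scheme.{u}} [IsLocallyNoetherian X] (U : X.Opens)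

theorem exists_cover_basicOpen {W : X.Opens} (hW : IsAffineOpen W) :
    ∃ (κ : Type u) (_ : Finite κ) (f : κ → Γ(X, W)), W ⊓ U = ⨆ i, X.basicOpen (f i) := by
  have hex : ∀ x : (W ⊓ U : X.Opens), ∃ f : Γ(X, W), X.basicOpen f ≤ W ⊓ U ∧ x.1 ∈ X.basicOpen f :=
    fun x => hW.exists_basicOpen_le x x.2.1
  choose f hf hfx using hex
  haveI : IsAffine (W : Scheme.{u}) := hW
  haveI : IsNoetherian (W : Scheme.{u}) := {}
  have hc : IsCompact ((W ⊓ U : X.Opens) : Set X) := by
    have : ((W ⊓ U : X.Opens) : Set X) = W.ι '' (W.ι ⁻¹' (U : Set X)) := by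
      rw [Set.image_preimage_eq_inter_range, Scheme.Opens.range_ι, Set.inter_comm]; rfl
    rw [this]
    exact (NoetherianSpace.isCompact _).image W.ι.continuous
  obtain ⟨s, hs⟩ := hc.elim_finite_subcover (fun x => (X.basicOpen (f x) : Set X))
    (fun x => (X.basicOpen (f x)).isOpen) (fun x hx => Set.mem_iUnion.2 ⟨⟨x, hx⟩, hfx ⟨x, hx⟩⟩)
  refine ⟨↥s, inferInstance, fun i => f i.1, le_antisymm (fun x hx => ?_) (iSup_le fun i => hf i.1)⟩
  obtain ⟨i, hi, hxi⟩ := Set.mem_iUnion₂.1 (hs hx)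
  exact Opens.mem_iSup.2 ⟨⟨i, hi⟩, hxi⟩

variable (hU : ∀ x : X, x ∉ U → (2 : ℕ∞) ≤ LocCoh.depth (X.presheaf.stalk x) (X.presheaf.stalk x))
  {T : Scheme.{u}} (vh : T ⟶ U) [IsFinite vh] [Etale vh]

omit [IsLocallyNoetherian X] [IsFinite vh] [Etale vh] in
theorem preimage_le (W : X.Opens) : (vh ≫ U.ι) ⁻¹ᵁ W ≤ (vh ≫ U.ι) ⁻¹ᵁ (W ⊓ U) :=
  fun z hz => ⟨hz, (vh z).2⟩

include hU in
theorem finite_app {W : X.Opens} (hW : IsAffineOpen W) : ((vh ≫ U.ι).app W).hom.Finite := by
  obtain ⟨κ, _, f, hf⟩ := exists_cover_basicOpen U hW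
  let π := vh ≫ U.ι
  let A := Γ(X, W)
  let B := Γ(T, π ⁻¹ᵁ W)
  haveI : IsNoetherianRing A := IsLocallyNoetherian.component_noetherian ⟨W, hW⟩
  letI : Algebra A B := (π.app W).hom.toAlgebra
  let res : A →+* Γ(X, W ⊓ U) := (X.presheaf.map (homOfLE (inf_le_left : W ⊓ U ≤ W)).op).hom
  have hres : Function.Bijective res := by
    have h := Groth.L20.FlatHartogs.appTop_bijective hU (𝟙 X) hW hW (le_refl W)
    rw [Scheme.homOfLE_appTop] at h
    have e : ∀ {P Q : X.Opens} (k : P ⟶ Q) (P' Q' : X.Opens) (hP : P' = P) (hQ : Q' = Q) (k' : P' ⟶ Q'),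
        Function.Bijective (X.presheaf.map k.op) → Function.Bijective (X.presheaf.map k'.op) := by
      intro P Q k P' Q' hP hQ k' hk
      subst hP; subst hQ
      rwa [Subsingleton.elim k' k]
    exact e _ _ _ (by simp) (by simp) _ h
  have hA : IsGlued f := by
    refine IsGlued.of_bijective res hres (glued_of_cover (W ⊓ U) _ ?_)
    intro x hx
    obtain ⟨i, hi⟩ := Opens.mem_iSup.1 (hf.le hx)
    refine Opens.mem_iSup.2 ⟨i, ?_⟩
    show x ∈ X.basicOpen (X.presheaf.map (homOfLE (inf_le_left : W ⊓ U ≤ W)).op (f i))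
    rw [Scheme.basicOpen_res]
    exact ⟨hx, hi⟩
  let g : κ → B := fun i => algebraMap A B (f i)
  have hgi : ∀ i, T.basicOpen (g i) = π ⁻¹ᵁ X.basicOpen (f i) := fun i => (π.preimage_basicOpen (f i)).symm
  have hB : IsGlued g := glued_of_cover _ g fun z hz => by
    obtain ⟨i, hi⟩ := Opens.mem_iSup.1 (hf.le (preimage_le U vh W hz))
    exact Opens.mem_iSup.2 ⟨i, (hgi i).ge hi⟩
  let le : ∀ i, T.basicOpen (g i) ≤ π ⁻¹ᵁ X.basicOpen (f i) := fun i => (hgi i).le
  letI : ∀ i, Algebra B Γ(T, T.basicOpen (g i)) := fun i =>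
    (T.presheaf.map (homOfLE (T.basicOpen_le (g i))).op).hom.toAlgebra
  letI : ∀ i, Algebra A Γ(X, X.basicOpen (f i)) := fun i =>
    (X.presheaf.map (homOfLE (X.basicOpen_le (f i))).op).hom.toAlgebra
  letI : ∀ i, Algebra Γ(X, X.basicOpen (f i)) Γ(T, T.basicOpen (g i)) := fun i =>
    (π.appLE (X.basicOpen (f i)) (T.basicOpen (g i)) (le i)).hom.toAlgebra
  letI : ∀ i, Algebra A Γ(T, T.basicOpen (g i)) := fun i =>
    (π.appLE W (T.basicOpen (g i)) (T.basicOpen_le (g i))).hom.toAlgebra
  haveI : ∀ i, IsScalarTower A Γ(X, X.basicOpen (f i)) Γ(T, T.basicOpen (g i)) := fun i =>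
    IsScalarTower.of_algebraMap_eq' (congrArg CommRingCat.Hom.hom (π.map_appLE (le i) (homOfLE (X.basicOpen_le (f i))).op).symm)
  haveI : ∀ i, IsScalarTower A B Γ(T, T.basicOpen (g i)) := fun i =>
    IsScalarTower.of_algebraMap_eq' rfl
  haveI : ∀ i, IsLocalization.Away (f i) Γ(X, X.basicOpen (f i)) := fun i => hW.isLocalization_basicOpen (f i)
  haveI : IsQuasiSeparated ((π ⁻¹ᵁ W : T.Opens) : Set T) := π.isQuasiSeparated_preimage hW.isQuasiSeparated
  haveI : ∀ i, IsLocalization.Away (g i) Γ(T, T.basicOpen (g i)) := fun i =>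
    isLocalization_basicOpen_of_qcqs (π.isCompact_preimage hW.isCompact)
      (π.isQuasiSeparated_preimage hW.isQuasiSeparated) (g i)
  let l : ∀ i, B →ₗ[A] Γ(T, T.basicOpen (g i)) := fun i =>
    (IsScalarTower.toAlgHom A B Γ(T, T.basicOpen (g i))).toLinearMap
  haveI : ∀ i, IsLocalizedModule (Submonoid.powers (f i)) (l i) := fun i => by
    apply isLocalizedModule_iff_isLocalization.2
    rw [Algebra.algebraMapSubmonoid_powers]
    infer_instance
  have hfin : ∀ i, Module.Finite Γ(X, X.basicOpen (f i)) Γ(T, T.basicOpen (g i)) := by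
    intro i
    let D := X.basicOpen (f i)
    have hDU : D ≤ U := ((le_iSup (fun i => X.basicOpen (f i)) i).trans hf.ge).trans inf_le_right
    haveI : IsFinite (π ∣_ D) := by
      have sq : IsPullback (π ⁻¹ᵁ D).ι (π ∣_ D) vh (X.homOfLE hDU) := by
        have t : IsPullback (𝟙 T) vh π U.ι := ⟨⟨by simp [π]⟩, ⟨PullbackCone.IsLimit.mk _ (fun s => s.fst)
          (fun s => Category.comp_id _) (fun s => by
            rw [← cancel_mono U.ι, Category.assoc]; exact s.condition)
          (fun s m h1 _ => by simpa using h1)⟩⟩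
        refine IsPullback.of_right ?_ ?_ t
        · rw [Category.comp_id, Scheme.homOfLE_ι]
          exact (isPullback_morphismRestrict π D).flip
        · rw [← cancel_mono U.ι, Category.assoc, Category.assoc, Scheme.homOfLE_ι, morphismRestrict_ι]
      exact MorphismProperty.of_isPullback sq inferInstance
    haveI : IsAffine (D : Scheme.{u}) := hW.basicOpen (f i)
    have h1 : ((π ∣_ D).appTop).hom.Finite := (π ∣_ D).finite_appTop
    rw [morphismRestrict_appTop] at h1
    have key : ∀ D' : X.Opens, D' = D → (π.app D').hom.Finite →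
        (π.appLE D (T.basicOpen (g i)) (le i)).hom.Finite := by
      intro D' hD' h
      subst hD'
      have e : π.appLE D (T.basicOpen (g i)) (le i) = π.app D ≫ T.presheaf.map (eqToHom (hgi i)).op :=
        rfl
      rw [e, CommRingCat.hom_comp]
      exact RingHom.Finite.comp (RingHom.Finite.of_surjective _
        (ConcreteCategory.bijective_of_isIso (T.presheaf.map (eqToHom (hgi i)).op)).2) h
    refine key _ (Scheme.Opens.ι_image_top D) ?_
    have aux : ∀ {P Q Q' : CommRingCat.{u}} (a : P ⟶ Q) (b : Q ⟶ Q') [IsIso b],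
        (a ≫ b).hom.Finite → a.hom.Finite := by
      intro P Q Q' a b _ h
      have h2 : ((a ≫ b) ≫ inv b).hom.Finite := RingHom.Finite.comp (RingHom.Finite.of_surjective (inv b).hom
        (ConcreteCategory.bijective_of_isIso (inv b)).2) h
      rwa [Category.assoc, IsIso.hom_inv_id, Category.comp_id] at h2
    refine @aux _ _ _ _ _ ?_ h1
    exact (T.presheaf.mapIso (eqToIso (by simp [← Scheme.Hom.comp_preimage])).op).isIso_hom
  haveI : ∀ i, Module.Projective Γ(X, X.basicOpen (f i)) Γ(T, T.basicOpen (g i)) := by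
    intro i
    haveI := hfin i
    haveI : Algebra.Etale Γ(X, X.basicOpen (f i)) Γ(T, T.basicOpen (g i)) := by
      haveI : Etale π := inferInstance
      have hT : IsAffineOpen (T.basicOpen (g i)) := by
        rw [hgi i]
        have hDU : X.basicOpen (f i) ≤ U := ((le_iSup (fun i => X.basicOpen (f i)) i).trans hf.ge).trans inf_le_right
        have e : π ⁻¹ᵁ X.basicOpen (f i) = vh ⁻¹ᵁ (U.ι ⁻¹ᵁ X.basicOpen (f i)) := rfl
        rw [e]
        refine IsAffineOpen.preimage ?_ vh
        refine (hW.basicOpen (f i)).preimage_of_isOpenImmersion U.ι ?_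
        rw [Scheme.Opens.opensRange_ι]; exact hDU
      exact HasRingHomProperty.appLE (P := @Etale) π inferInstance ⟨_, hW.basicOpen (f i)⟩ ⟨_, hT⟩ (le i)
    haveI : IsNoetherianRing Γ(X, X.basicOpen (f i)) :=
      IsLocallyNoetherian.component_noetherian ⟨_, hW.basicOpen (f i)⟩
    haveI := Module.finitePresentation_of_finite Γ(X, X.basicOpen (f i)) Γ(T, T.basicOpen (g i))
    exact Module.Flat.projective_of_finitePresentation
  haveI := hfin
  exact finite_of_glued f hA (B := B) (fun b hb => hB.sep b fun i => by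
    obtain ⟨N, hN⟩ := hb i
    exact ⟨N, by rwa [Algebra.smul_def, map_pow] at hN⟩)
    (fun i => Γ(X, X.basicOpen (f i))) (fun i => Γ(T, T.basicOpen (g i))) l

include hU in
/-- the finite extension of depth two -/
theorem exists_extension : ∃ (Y : Scheme.{u}) (π : Y ⟶ X) (e : pullback π U.ι ≅ T), IsFinite π ∧
      e.hom ≫ vh = pullback.snd π U.ι ∧
      ∀ y : Y, π y ∉ U → (2 : ℕ∞) ≤ LocCoh.depth (Y.presheaf.stalk y) (Y.presheaf.stalk y) := by
  let f := vh ≫ U.ι
  let π := f.fromNormalization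
  let tN := f.toNormalization
  have hint : ∀ (W : X.Opens) (_ : IsAffineOpen W), letI := (f.app W).hom.toAlgebra
      integralClosure Γ(X, W) Γ(T, f ⁻¹ᵁ W) = ⊤ := by
    intro W hW
    letI := (f.app W).hom.toAlgebra
    haveI : Module.Finite Γ(X, W) Γ(T, f ⁻¹ᵁ W) := finite_app U hU vh hW
    exact integralClosure_eq_top_iff.2 inferInstance
  have happ : ∀ (W : X.Opens), IsAffineOpen W → IsIso (tN.app (π ⁻¹ᵁ W)) := by
    intro W hW
    letI := (f.app W).hom.toAlgebra
    show IsIso (f.toNormalization.app (f.fromNormalization ⁻¹ᵁ W))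
    rw [f.toNormalization_app_preimage ⟨W, hW⟩]
    haveI hv : IsIso (CommRingCat.ofHom (integralClosure Γ(X, W) Γ(T, f ⁻¹ᵁ W)).val.toRingHom) := by
      rw [ConcreteCategory.isIso_iff_bijective]
      exact ⟨Subtype.val_injective, fun b => ⟨⟨b, by rw [hint W hW]; trivial⟩, rfl⟩⟩
    exact IsIso.comp_isIso' inferInstance (IsIso.comp_isIso' hv inferInstance)
  haveI : IsFinite π := by
    refine { toIsAffineHom := inferInstance, finite_app := fun W hW => ?_ }
    letI := (f.app W).hom.toAlgebra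
    haveI : Module.Finite Γ(X, W) Γ(T, f ⁻¹ᵁ W) := finite_app U hU vh hW
    haveI : IsNoetherianRing Γ(X, W) := IsLocallyNoetherian.component_noetherian ⟨W, hW⟩
    haveI : Module.Finite Γ(X, W) (integralClosure Γ(X, W) Γ(T, f ⁻¹ᵁ W)) :=
      Module.Finite.of_injective (integralClosure Γ(X, W) Γ(T, f ⁻¹ᵁ W)).val.toLinearMap Subtype.val_injective
    show (f.fromNormalization.app W).hom.Finite
    rw [f.fromNormalization_app hW]
    exact RingHom.Finite.comp (RingHom.Finite.of_surjective _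
      (ConcreteCategory.bijective_of_isIso (f.normalizationObjIso hW).inv).2)
      (RingHom.finite_algebraMap.2 inferInstance)
  let YU := π ⁻¹ᵁ U
  have htop : tN ⁻¹ᵁ YU = ⊤ := by
    ext z
    refine ⟨fun _ => trivial, fun _ => ?_⟩
    show π (tN z) ∈ U
    have : π (tN z) = f z := congrArg (fun k : T ⟶ X => k z) f.toNormalization_fromNormalization
    rw [this]
    exact (vh z).2
  haveI : IsIso (tN ∣_ YU) := by
    let ι := {W : X.affineOpens // W.1 ≤ U}
    refine (IsZariskiLocalAtTarget.iff_of_iSup_eq_top (P := MorphismProperty.isomorphisms Scheme)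
      (fun W : ι => YU.ι ⁻¹ᵁ (π ⁻¹ᵁ W.1.1)) ?_).2 fun W => ?_
    · refine eq_top_iff.2 fun z _ => ?_
      obtain ⟨W, hW, hzW, hWU⟩ := exists_isAffineOpen_mem_and_subset (X := X) (x := π z.1) (U := U) z.2
      exact Opens.mem_iSup.2 ⟨⟨⟨W, hW⟩, hWU⟩, hzW⟩
    · refine (MorphismProperty.arrow_mk_iso_iff (MorphismProperty.isomorphisms Scheme.{u})
        (morphismRestrictRestrict tN YU _)).2 ?_
      have e : YU.ι ''ᵁ (YU.ι ⁻¹ᵁ (π ⁻¹ᵁ W.1.1)) = π ⁻¹ᵁ W.1.1 := by
        rw [Scheme.Hom.image_preimage_eq_opensRange_inf, Scheme.Opens.opensRange_ι]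
        exact inf_eq_right.2 (π.preimage_mono W.2)
      rw [e]
      show IsIso (tN ∣_ (π ⁻¹ᵁ W.1.1))
      haveI : IsAffine ↑(π ⁻¹ᵁ W.1.1) := W.1.2.preimage π
      haveI : IsAffine ↑(tN ⁻¹ᵁ (π ⁻¹ᵁ W.1.1)) := by
        have e2 : tN ⁻¹ᵁ (π ⁻¹ᵁ W.1.1) = vh ⁻¹ᵁ (U.ι ⁻¹ᵁ W.1.1) := by
          rw [← Scheme.Hom.comp_preimage, f.toNormalization_fromNormalization]; rfl
        rw [e2]
        refine IsAffineOpen.preimage ?_ vh
        refine W.1.2.preimage_of_isOpenImmersion U.ι ?_
        rw [Scheme.Opens.opensRange_ι]; exact W.2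
      refine (HasAffineProperty.iff_of_isAffine (P := MorphismProperty.isomorphisms Scheme)).2 ⟨inferInstance, ?_⟩
      rw [morphismRestrict_appTop]
      haveI hv : IsIso (tN.app ((π ⁻¹ᵁ W.1.1).ι ''ᵁ ⊤)) := by rw [Scheme.Opens.ι_image_top]; exact happ _ W.1.2
      exact IsIso.comp_isIso' hv (T.presheaf.mapIso (eqToIso (by rw [Scheme.Hom.preimage_top, Scheme.Opens.ι_image_top, Scheme.Opens.ι_image_top])).op).isIso_hom
  let e : pullback π U.ι ≅ T := pullbackRestrictIsoRestrict π U ≪≫ (asIso (tN ∣_ YU)).symm ≪≫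
    T.isoOfEq htop ≪≫ T.topIso
  refine ⟨f.normalization, π, e, inferInstance, ?_, fun y hy => ?_⟩
  · rw [← cancel_mono U.ι, Category.assoc, ← pullback.condition]
    have h1 : e.hom ≫ tN = pullback.fst π U.ι := by
      simp only [e, Iso.trans_hom, Category.assoc, Iso.symm_hom, asIso_inv, Scheme.topIso_hom,
        Scheme.isoOfEq_hom_ι_assoc]
      rw [← morphismRestrict_ι, IsIso.inv_hom_id_assoc, pullbackRestrictIsoRestrict_hom_ι]
    rw [← h1, Category.assoc]
    exact congrArg (e.hom ≫ ·) f.toNormalization_fromNormalization.symm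
  · obtain ⟨W, hW, hyW, -⟩ := exists_isAffineOpen_mem_and_subset (X := X) (x := π y) (U := ⊤) trivial
    obtain ⟨κ, _, c, hc⟩ := exists_cover_basicOpen U hW
    haveI : IsLocallyNoetherian f.normalization := LocallyOfFiniteType.isLocallyNoetherian π
    haveI := happ W hW
    have hYW : IsAffineOpen (π ⁻¹ᵁ W) := hW.preimage π
    haveI : IsNoetherianRing Γ(f.normalization, π ⁻¹ᵁ W) := IsLocallyNoetherian.component_noetherian ⟨_, hYW⟩
    let g : κ → Γ(f.normalization, π ⁻¹ᵁ W) := fun i => π.app W (c i)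
    have hg : IsGlued g := by
      refine IsGlued.of_bijective (tN.app (π ⁻¹ᵁ W)).hom (ConcreteCategory.bijective_of_isIso _)
        (glued_of_cover _ _ fun z hz => ?_)
      have hz' : π (tN z) ∈ W := hz
      have hzU : π (tN z) ∈ U := (htop.ge (show z ∈ (⊤ : T.Opens) from trivial) : z ∈ tN ⁻¹ᵁ YU)
      obtain ⟨i, hi⟩ := Opens.mem_iSup.1 (hc.le ⟨hz', hzU⟩)
      refine Opens.mem_iSup.2 ⟨i, ?_⟩
      show z ∈ T.basicOpen (tN.app (π ⁻¹ᵁ W) (π.app W (c i)))
      rw [← tN.preimage_basicOpen, ← π.preimage_basicOpen]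
      exact hi
    let q := hYW.primeIdealOf ⟨y, (show y ∈ π ⁻¹ᵁ W from hyW)⟩
    letI := f.normalization.presheaf.algebra_section_stalk ⟨y, (show y ∈ π ⁻¹ᵁ W from hyW)⟩
    haveI := hYW.isLocalization_stalk ⟨y, (show y ∈ π ⁻¹ᵁ W from hyW)⟩
    refine two_le_depth_of_glued g hg q.asIdeal (fun i => ?_) _
    by_contra hgi
    have h1 : y ∈ f.normalization.basicOpen (g i) := by
      rw [f.normalization.mem_basicOpen (g i) y (show y ∈ π ⁻¹ᵁ W from hyW)]
      exact IsLocalization.map_units (f.normalization.presheaf.stalk y) (⟨g i, hgi⟩ : q.asIdeal.primeCompl)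
    rw [← π.preimage_basicOpen] at h1
    exact hy (hc.ge (Opens.mem_iSup.2 ⟨i, h1⟩)).2

end Groth.L27.S2Ext
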